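import Groth.Agent.InjMod14.Kosz.Divisor
import Groth.Agent.EulerLib.Twist
import Groth.Agent.SerreDual.PushEquiv
import Groth.Agent.CAlgH3.ModCohSeq
import Groth.Agent.DCat.ClosedPush
import Groth.Agent.EGA43.InjFibre.Scheme
import Groth.Agent.FlatMor12.HilbOpen

/-!
# The sequence of an invertible ideal, and restriction of sections along closed immersions
-/

set_option autoImplicit false
set_option backward.isDefEq.respectTransparency false
set_option backward.isDefEq.respectTransparency.types false
set_option linter.style.haveILetI false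

universe u

open CategoryTheory CategoryTheory.Limits AlgebraicGeometry Opposite TopologicalSpace
open Groth.Agent Groth.Agent.Coherent Groth.Agent.PicLib Groth.Agent.AmpleLib Groth.Agent.InjMod14.Kosz
open Groth.Agent.CAlgH3.ModCohSeq

namespace Groth.Agent.CI14

variable {X Y Z : Scheme.{u}} (J : X.IdealSheafData) (hJ : PicF.IsInvertible (ClSub.idealMod J))

include hJ in
theorem jmul_comp_clUnit (M : X.Modules) : jmul J M ≫ clUnit J.subschemeι M = 0 := by
  refine hom_ext_local _ _ fun W x hx => ?_
  obtain ⟨V₀, hxV₀, k₀, hk₀⟩ := exists_isGen hJ x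
  obtain ⟨V, hV, hxV, hVW⟩ := exists_isAffineOpen_mem_and_subset (x := x) (U := W ⊓ V₀) ⟨hx, hxV₀⟩
  refine ⟨⟨V, hV⟩, hxV, fun y hy => (hVW hy).1, fun a => ?_⟩
  have hVV : V ≤ V₀ := fun y hy => (hVW hy).2
  obtain ⟨m, rfl⟩ := (bijective_tmul_gen (M := M) hk₀ V hVV).2 a
  rw [app_comp_apply, jmul_tmul]
  exact clUnit_smul_zero J M ⟨V, hV⟩ (ival_mem J ⟨V, hV⟩ _) m

theorem mono_jmul {M : X.Modules} (hM : PicF.IsInvertible M) : Mono (jmul J M) := by
  haveI := mono_idealModι J
  have h : KoszTw.tensorMap (𝟙 M) (ClSub.idealModι J) =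
      (AmpleLib.tensorComm M (ClSub.idealMod J)).hom ≫ AmpleLib.tensorMap (ClSub.idealModι J) (𝟙 M) ≫
        (AmpleLib.tensorComm (Coh.structureModule X) M).hom :=
    AmpleLib.hom_ext fun U a b => by
      refine (KoszTw.tensorMap_tmul _ _ _ _ _).trans ?_
      refine Eq.symm ?_
      refine (congrArg (fun z => (AmpleLib.tensorComm (Coh.structureModule X) M).hom.app U
        ((AmpleLib.tensorMap (ClSub.idealModι J) (𝟙 M)).app U z)) (Bilin.desc_tmul _ U a b)).trans ?_
      refine (congrArg (fun z => (AmpleLib.tensorComm (Coh.structureModule X) M).hom.app U z)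
        (AmpleLib.tensorMap_tmul _ _ b a)).trans ?_
      exact Bilin.desc_tmul _ U _ _
  haveI := EulerLib.mono_tensorMap hM (ClSub.idealModι J)
  rw [jmul, h]
  infer_instance

/-- `0 → M ⊗ J → M → M|_{V(J)} → 0`. -/
noncomputable abbrev divSeq (M : X.Modules) : ShortComplex X.Modules :=
  ShortComplex.mk (jmul J M) (clUnit J.subschemeι M) (jmul_comp_clUnit J hJ M)

theorem divSeq_shortExact {M : X.Modules} (hM : PicF.IsInvertible M) : (divSeq J hJ M).ShortExact := by
  haveI := mono_jmul J hM
  haveI := epi_clUnit J.subschemeι (F := M)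
  refine { exact := ?_, mono_f := inferInstance, epi_g := inferInstance }
  rw [ShortComplex.exact_iff_mono_cokernel_desc]
  haveI := mono_clUnit J.subschemeι (killedBy_cokernel_jmul J M)
  have e : cokernel.desc (jmul J M) (clUnit J.subschemeι M) (jmul_comp_clUnit J hJ M) ≫
      (Scheme.Modules.pushforward J.subschemeι).map ((Scheme.Modules.pullback J.subschemeι).map (cokernel.π (jmul J M))) =
      clUnit J.subschemeι (cokernel (jmul J M)) := by
    rw [← cancel_epi (cokernel.π (jmul J M)), cokernel.π_desc_assoc]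
    exact ((Scheme.Modules.pullbackPushforwardAdjunction J.subschemeι).unit.naturality (cokernel.π (jmul J M))).symm
  exact mono_of_mono_fac e

/-- Restriction of global sections is surjective. -/
def SurjRes (f : Y ⟶ X) (M : X.Modules) : Prop :=
  Function.Surjective (((Scheme.Modules.pullbackPushforwardAdjunction f).unit.app M).app ⊤)

theorem surjRes_of_isIso_unit (f : Y ⟶ X) (M : X.Modules)
    [IsIso ((Scheme.Modules.pullbackPushforwardAdjunction f).unit.app M)] : SurjRes f M :=
  (ConcreteCategory.bijective_of_isIso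
    (((Scheme.Modules.pullbackPushforwardAdjunction f).unit.app M).app ⊤)).2

theorem surjRes_comp (f : Z ⟶ Y) (g : Y ⟶ X) (M : X.Modules) (hg : SurjRes g M)
    (hf : SurjRes f ((Scheme.Modules.pullback g).obj M)) : SurjRes (f ≫ g) M := by
  have h := unit_conjugateEquiv
    ((Scheme.Modules.pullbackPushforwardAdjunction g).comp (Scheme.Modules.pullbackPushforwardAdjunction f))
    (Scheme.Modules.pullbackPushforwardAdjunction (f ≫ g)) (Scheme.Modules.pullbackComp f g).inv M
  rw [Scheme.Modules.conjugateEquiv_pullbackComp_inv] at h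
  intro y
  obtain ⟨z, hz⟩ := (ConcreteCategory.bijective_of_isIso
    (((Scheme.Modules.pushforwardComp f g).hom.app
      ((Scheme.Modules.pullback f).obj ((Scheme.Modules.pullback g).obj M))).app ⊤)).2
    ((((Scheme.Modules.pushforward (f ≫ g)).map ((Scheme.Modules.pullbackComp f g).inv.app M))).app ⊤ y)
  obtain ⟨w, hw⟩ := hf z
  obtain ⟨v, hv⟩ := hg w
  refine ⟨v, (ConcreteCategory.bijective_of_isIso
    (((Scheme.Modules.pushforward (f ≫ g)).map ((Scheme.Modules.pullbackComp f g).inv.app M)).app ⊤)).1 ?_⟩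
  refine Eq.trans (ConcreteCategory.congr_hom (congrArg (fun ψ => ψ.app ⊤) h) v).symm (Eq.trans ?_ hz)
  exact congrArg (fun t => (((Scheme.Modules.pushforwardComp f g).hom.app
      ((Scheme.Modules.pullback f).obj ((Scheme.Modules.pullback g).obj M))).app ⊤) t)
    ((congrArg (fun t => (((Scheme.Modules.pullbackPushforwardAdjunction f).unit.app
      ((Scheme.Modules.pullback g).obj M)).app ⊤) t) hv).trans hw)

theorem isIso_clUnit_of_isIso (e : Y ⟶ X) [IsIso e] (M : X.Modules) : IsIso (clUnit e M) := by
  have hk : ClSub.KilledByIdeal e.ker M := by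
    rw [Scheme.Hom.ker_eq_bot_of_isIso]
    intro U a ha q
    rw [Scheme.IdealSheafData.ideal_bot] at ha
    simp only [Pi.bot_apply, Ideal.mem_bot] at ha
    rw [ha, zero_smul]
  haveI := mono_clUnit e hk
  haveI := epi_clUnit e (F := M)
  exact isIso_of_mono_of_epi _

theorem V_push_iff (f : Y ⟶ X) [IsAffineHom f] (M : Y.Modules) [Coh.IsQCoh M] (q : ℕ) :
    V ((Scheme.Modules.pushforward f).obj M) q ↔ V M q :=
  ⟨fun h => @Equiv.subsingleton _ _ (HHAffinePushEquiv f M q).toEquiv h,
    fun h => @Equiv.subsingleton _ _ (HHAffinePushEquiv f M q).symm.toEquiv h⟩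

/-- Transfer along an isomorphism of closed subschemes. -/
theorem V_pullback_of_iso (e : Z ⟶ Y) [IsIso e] (g : Y ⟶ X) (M : X.Modules) [Coh.IsQCoh M] (q : ℕ)
    (h : V ((Scheme.Modules.pullback g).obj M) q) : V ((Scheme.Modules.pullback (e ≫ g)).obj M) q := by
  haveI := EGA43.InjFibre.isQCoh_pullback g M
  haveI := EGA43.InjFibre.isQCoh_pullback e ((Scheme.Modules.pullback g).obj M)
  haveI := isIso_clUnit_of_isIso e ((Scheme.Modules.pullback g).obj M)
  exact V_of_iso ((Scheme.Modules.pullbackComp e g).app M)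
    ((V_push_iff e ((Scheme.Modules.pullback e).obj ((Scheme.Modules.pullback g).obj M)) q).1 (V_of_isIso (clUnit e ((Scheme.Modules.pullback g).obj M)) h))

/-- The kernel of a composite of closed subscheme inclusions. -/
theorem ker_comap_comp_subschemeι (I H : X.IdealSheafData) :
    ((H.comap I.subschemeι).subschemeι ≫ I.subschemeι).ker = I ⊔ H := by
  change (H.comap I.subschemeι).map I.subschemeι = I ⊔ H
  refine le_antisymm ?_ (sup_le ?_ (H.le_map_comap _))
  · set inc := Scheme.IdealSheafData.inclusion (le_sup_left : I ≤ I ⊔ H)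
    have hle : H.comap I.subschemeι ≤ inc.ker := by
      rw [← Scheme.IdealSheafData.map_bot inc, Scheme.IdealSheafData.le_map_iff_comap_le,
        ← Scheme.IdealSheafData.comap_comp, Scheme.IdealSheafData.inclusion_subschemeι,
        ← Scheme.IdealSheafData.le_map_iff_comap_le, Scheme.IdealSheafData.map_bot,
        Scheme.IdealSheafData.ker_subschemeι]
      exact le_sup_right
    refine (Scheme.IdealSheafData.map_mono _ hle).trans ?_
    change inc.ker.map I.subschemeι ≤ _
    rw [Scheme.IdealSheafData.map_ker, Scheme.IdealSheafData.inclusion_subschemeι,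
      Scheme.IdealSheafData.ker_subschemeι]
  · refine le_trans ?_ (Scheme.IdealSheafData.map_mono _ bot_le)
    change I ≤ (⊥ : I.subscheme.IdealSheafData).map I.subschemeι
    rw [Scheme.IdealSheafData.map_bot, Scheme.IdealSheafData.ker_subschemeι]

end Groth.Agent.CI14
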