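import Groth.Agent.CI14.Local
import Groth.Agent.CI14.DivSeq
import Groth.Agent.Inters29.PullIdeal
import Groth.Agent.TwistLib.G.Inv
import Groth.Agent.CAlgH3.PSheafGen
import Groth.Agent.DCat.PullTensor
import Groth.Agent.Coherent.ProjSpaceCoh
import Groth.Agent.FlatMor12.IdealModGen

/-!
# Cohomology of global complete intersections in projective space
-/

set_option autoImplicit false
set_option backward.isDefEq.respectTransparency false
set_option backward.isDefEq.respectTransparency.types false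
set_option linter.style.haveILetI false
set_option maxHeartbeats 800000

universe u

open CategoryTheory CategoryTheory.Limits AlgebraicGeometry Opposite TopologicalSpace
open Groth.Agent Groth.Agent.Coherent Groth.Agent.DimLib Groth.Agent.CAlgH3.ModCohSeq

namespace Groth.Agent.CI14

variable {k : Type u} [Field k] {n : ℕ}

theorem exists_point_ci {r : ℕ} {a : Fin r → ℕ} (ha : ∀ l, 1 ≤ a l)
    (G : ∀ l : Fin r, LefPen.Form n k (a l)) (hr : r ≤ n) :
    ∃ y : (LefPen.ciIdeal G).subscheme, True := by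
  classical
  obtain ⟨η, hη⟩ := PN.exists_point (n := n) (k := k) Ideal.isPrime_bot PN.bot_isHomogeneous PN.bot_ne_m0
  let E : Finset (MvPolynomial (Fin (n + 1)) k) := Finset.univ.image fun l => (G l).1
  obtain ⟨z, -, hz⟩ := PN.exists_mem_zeroLocus η E (fun e he => by
    obtain ⟨l, -, rfl⟩ := Finset.mem_image.1 he
    exact ⟨_, ha l, (G l).2⟩) (by
    have := Finset.card_image_le (s := (Finset.univ : Finset (Fin r))) (f := fun l => (G l).1)
    rw [Finset.card_univ, Fintype.card_fin] at this
    rw [hη, PN.cdim_bot]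
    change (Finset.univ.image fun l => (G l).1).card < n + 1
    omega)
  obtain ⟨y, -⟩ := (LefPen.ciIdeal G).range_subschemeι.ge ((mem_support_ciIdeal_iff G z).2 fun l =>
    hz (Finset.mem_coe.2 (Finset.mem_image.2 ⟨l, Finset.mem_univ _, rfl⟩)))
  exact ⟨y, trivial⟩

section Step

variable {r : ℕ} {a : Fin (r + 1) → ℕ} (G : ∀ l : Fin (r + 1), LefPen.Form n k (a l))

/-- The intersection of the first `r` forms. -/
noncomputable abbrev prev : (CohB1.ProjSpace n k).IdealSheafData :=
  LefPen.ciIdeal fun l : Fin r => G l.castSucc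

/-- The last hypersurface, on the intersection of the first `r`. -/
noncomputable abbrev cut : (prev G).subscheme.IdealSheafData :=
  (LefPen.hypIdeal (G (Fin.last r))).comap (prev G).subschemeι

theorem prev_sup_eq : prev G ⊔ LefPen.hypIdeal (G (Fin.last r)) = LefPen.ciIdeal G := by
  refine le_antisymm (sup_le (iSup_le fun l => le_iSup (fun l => LefPen.hypIdeal (G l)) l.castSucc)
    (le_iSup (fun l => LefPen.hypIdeal (G l)) (Fin.last r))) (iSup_le fun l => ?_)
  induction l using Fin.lastCases with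
  | last => exact le_sup_right
  | cast l => exact (le_iSup (fun l : Fin r => LefPen.hypIdeal (G l.castSucc)) l).trans le_sup_left

theorem last_ne_zero (ha : ∀ l, 1 ≤ a l) (hr : r + 1 ≤ n) (hG : IsProperCI G) : G (Fin.last r) ≠ 0 := by
  intro h0
  obtain ⟨y, -⟩ := exists_point_ci ha G hr
  obtain ⟨j, hj⟩ := exists_chart ((LefPen.ciIdeal G).subschemeι y)
  obtain ⟨hmem, hreg, -⟩ := regular_germOf G hG y j hj
  have hz : germOf G j _ hj (Fin.last r) = 0 := by
    unfold germOf
    rw [h0]
    have : LefPen.dehom (0 : LefPen.Form n k (a (Fin.last r))) j = 0 := LefPen24.sec_ext fun x => by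
      rw [LefPen24.secVal_dehom]
      exact (Localization.mk_zero _).trans HomogeneousLocalization.val_zero.symm
    rw [this, map_zero]
  have h := hreg (Finset.univ.erase (Fin.last r)) (Fin.last r) (Finset.notMem_erase _ _)
  rw [hz] at h
  have hne : Ideal.span (germOf G j _ hj '' ((Finset.univ.erase (Fin.last r) : Finset (Fin (r + 1))) : Set (Fin (r + 1)))) ≠ ⊤ :=
    ne_top_of_le_ne_top (Ideal.IsMaximal.ne_top inferInstance) (Ideal.span_le.2 (by rintro _ ⟨l, -, rfl⟩; exact hmem l))
  haveI := Ideal.Quotient.nontrivial_iff.2 hne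
  exact one_ne_zero (h (a₁ := (1 : _ ⧸ _)) (a₂ := 0) (by simp))

theorem isEffCartier_cut (hG : IsProperCI G) : BlowUp.IsEffCartierIdeal (cut G) := by
  classical
  intro y
  let ι := (prev G).subschemeι
  obtain ⟨j, hj⟩ := exists_chart (ι y)
  let U₀ : (CohB1.ProjSpace n k).affineOpens := ⟨LefPen.chart n k j, LefPen24.isAffineOpen_chart j⟩
  refine ⟨⟨ι ⁻¹ᵁ U₀.1, U₀.2.preimage ι⟩, hj, (ι.app U₀.1).hom (LefPen.dehom (G (Fin.last r)) j), ?_, ?_⟩
  · have key : ∀ c, c * (ι.app U₀.1).hom (LefPen.dehom (G (Fin.last r)) j) = 0 → c = 0 := by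
      intro c hc
      refine TopCat.Presheaf.section_ext (prev G).subscheme.sheaf _ _ _ fun z hz => ?_
      refine Eq.trans ?_ (map_zero ((prev G).subscheme.presheaf.germ (ι ⁻¹ᵁ U₀.1) z hz).hom).symm
      have hg : (prev G).subscheme.presheaf.germ (ι ⁻¹ᵁ U₀.1) z hz ((ι.app U₀.1).hom (LefPen.dehom (G (Fin.last r)) j)) =
          (ι.stalkMap z) (germOf G j (ι z) hz (Fin.last r)) :=
        (Scheme.Hom.germ_stalkMap_apply ι U₀.1 z hz _).symm
      have h0 := congrArg ((prev G).subscheme.presheaf.germ (ι ⁻¹ᵁ U₀.1) z hz).hom hc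
      rw [map_mul, map_zero] at h0
      erw [hg] at h0
      show (prev G).subscheme.presheaf.germ (ι ⁻¹ᵁ U₀.1) z hz c = 0
      by_cases hu : IsUnit (germOf G j (ι z) hz (Fin.last r))
      · exact (IsUnit.mul_left_eq_zero (hu.map (ι.stalkMap z).hom)).1 h0
      obtain ⟨hsurj, hker⟩ := stalkMap_surj_ker (fun l : Fin r => G l.castSucc) z j hz
      have hsupp : ι z ∈ (LefPen.ciIdeal G).support := by
        refine (mem_support_ciIdeal_iff G _).2 fun l => ?_
        induction l using Fin.lastCases with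
        | last => exact (germOf_mem_iff G j _ hz (Fin.last r)).1 hu
        | cast l =>
          exact (mem_support_ciIdeal_iff (fun l : Fin r => G l.castSucc) _).1
            ((prev G).range_subschemeι.le ⟨z, rfl⟩) l
      obtain ⟨x, hx⟩ := (LefPen.ciIdeal G).range_subschemeι.ge hsupp
      have hreg : IsSMulRegular (_ ⧸ Ideal.span (germOf G j (ι z) hz '' ((Finset.univ.map Fin.castSuccEmb : Finset (Fin (r + 1))) : Set (Fin (r + 1)))))
          (germOf G j (ι z) hz (Fin.last r)) := by
        have hxj : (LefPen.ciIdeal G).subschemeι x ∈ LefPen.chart n k j := by rw [hx]; exact hz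
        have h2 := (regular_germOf G hG x j hxj).2.1 (Finset.univ.map Fin.castSuccEmb) (Fin.last r) (by simp)
        generalize (LefPen.ciIdeal G).subschemeι x = w at hx hxj h2
        subst hx
        exact h2
      obtain ⟨b, hb⟩ := hsurj ((prev G).subscheme.presheaf.germ (ι ⁻¹ᵁ U₀.1) z hz c)
      rw [← hb] at h0 ⊢
      have hmem : b * germOf G j (ι z) hz (Fin.last r) ∈ RingHom.ker (ι.stalkMap z).hom := by
        rw [RingHom.mem_ker, map_mul]; exact h0
      have himg : germOf G j (ι z) hz '' ((Finset.univ.map Fin.castSuccEmb : Finset (Fin (r + 1))) : Set (Fin (r + 1))) =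
          Set.range (germOf (fun l : Fin r => G l.castSucc) j (ι z) hz) := by
        rw [Finset.coe_map, Finset.coe_univ, Set.image_univ, ← Set.range_comp]
        rfl
      rw [hker, ← himg] at hmem
      rw [← RingHom.mem_ker, hker, ← himg, ← Ideal.Quotient.eq_zero_iff_mem]
      refine hreg ?_
      show germOf G j (ι z) hz (Fin.last r) • Ideal.Quotient.mk _ b = germOf G j (ι z) hz (Fin.last r) • (0 : _ ⧸ _)
      rw [smul_zero, Algebra.smul_def, Ideal.Quotient.algebraMap_eq, ← map_mul, mul_comm,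
        Ideal.Quotient.eq_zero_iff_mem.2 hmem]
    exact mem_nonZeroDivisors_iff.2 ⟨fun c hc => key c (by rwa [mul_comm]), key⟩
  · rw [ProjLib.comap_ideal_eq (LefPen.hypIdeal (G (Fin.last r))) ι U₀ ⟨ι ⁻¹ᵁ U₀.1, U₀.2.preimage ι⟩ le_rfl,
      LefPen24.ideal_hypIdeal_chart, Ideal.map_span, Set.image_singleton, Scheme.Hom.app_eq_appLE]

theorem isEffCartier_hyp {d : ℕ} (F : LefPen.Form n k d) (hF : F ≠ 0) :
    BlowUp.IsEffCartierIdeal (LefPen.hypIdeal F) := by
  intro x
  obtain ⟨j, hj⟩ := exists_chart x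
  haveI : IsIntegral (CohB1.ProjSpace n k) := CurveLib.isIntegral_projSpace (k := k) n
  haveI : Nonempty (LefPen.chart n k j).toScheme := ⟨⟨x, hj⟩⟩
  haveI : Nonempty ↥(LefPen.chart n k j : Opens ↥(CohB1.ProjSpace n k)) := ⟨⟨x, hj⟩⟩
  refine ⟨⟨LefPen.chart n k j, LefPen24.isAffineOpen_chart j⟩, hj, LefPen.dehom F j, ?_, LefPen24.ideal_hypIdeal_chart F j⟩
  haveI : IsDomain Γ(CohB1.ProjSpace n k, LefPen.chart n k j) := IsIntegral.component_integral _
  refine mem_nonZeroDivisors_iff_ne_zero.2 fun h0 => ?_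
  haveI := PN.finiteType_toSpec n k
  -- the generic point lies in the basic open of `F / T_j^d`
  obtain ⟨η, hη⟩ := PN.exists_point (n := n) (k := k) Ideal.isPrime_bot PN.bot_isHomogeneous PN.bot_ne_m0
  have hηj : η ∈ LefPen.chart n k j := by
    show MvPolynomial.X j ∉ η.asHomogeneousIdeal.toIdeal
    rw [hη, Ideal.mem_bot]
    exact MvPolynomial.X_ne_zero j
  have := (mem_basicOpen_dehom_iff F j η hηj).2 (by
    rw [hη, Ideal.mem_bot]; exact fun h => hF (Subtype.ext h))
  rw [h0, Scheme.basicOpen_zero] at this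
  exact this

/-- The ideal of the last hypersurface on the intersection of the others. -/
theorem nonempty_idealMod_cut_iso (ha : ∀ l, 1 ≤ a l) (hr : r + 1 ≤ n) (hG : IsProperCI G) :
    Nonempty (ClSub.idealMod (cut G) ≅
      (Scheme.Modules.pullback (prev G).subschemeι).obj (Twist.twistProjSpace n k (-(a (Fin.last r) : ℤ)))) := by
  obtain ⟨e⟩ := Inters29.nonempty_pullback_idealMod_iso (prev G).subschemeι _
    (isEffCartier_hyp _ (last_ne_zero G ha hr hG)) (isEffCartier_cut G hG)
  obtain ⟨e'⟩ := LefPen24.nonempty_idealMod_iso (G (Fin.last r)) (last_ne_zero G ha hr hG)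
  exact ⟨e.symm ≪≫ (Scheme.Modules.pullback _).mapIso e'⟩

end Step

theorem isInvertible_twist' (i : ℤ) : PicF.IsInvertible (Twist.twistProjSpace n k i) :=
  CAlgH3.PSheafGen.isInvertible_twistProj i

theorem isQCoh_twist' (i : ℤ) : Coh.IsQCoh (Twist.twistProjSpace n k i) :=
  AmpleLib.isQCoh_of_isInvertible (isInvertible_twist' i)

theorem surjRes_of_eq {X Y : Scheme.{u}} {f g : Y ⟶ X} (h : f = g) {M : X.Modules} (hg : SurjRes g M) :
    SurjRes f M := h ▸ hg

theorem V_of_eq {X Y : Scheme.{u}} {f g : Y ⟶ X} (h : f = g) {M : X.Modules} {p : ℕ}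
    (hg : V ((Scheme.Modules.pullback g).obj M) p) : V ((Scheme.Modules.pullback f).obj M) p := h ▸ hg

theorem nonempty_twist_tensor (i j l : ℤ) (h : i + j = l) :
    Nonempty (CohB1.tensorMod (Twist.twistProjSpace n k i) (Twist.twistProjSpace n k j) ≅ Twist.twistProjSpace n k l) :=
  TwistLib.G.nonempty_tensor_twist_iso (𝒜 := CohB1.polyGrading n k) CAlgH3.PSheafGen.covers h

theorem V_tensor_pullback {X Y : Scheme.{u}} (f : Y ⟶ X) {A B C : X.Modules} {P : Y.Modules} {p : ℕ}
    (eP : P ≅ (Scheme.Modules.pullback f).obj B) (et : CohB1.tensorMod A B ≅ C)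
    (h : V ((Scheme.Modules.pullback f).obj C) p) :
    V (CohB1.tensorMod ((Scheme.Modules.pullback f).obj A) P) p := by
  let e1 : CohB1.tensorMod ((Scheme.Modules.pullback f).obj A) P ≅
      CohB1.tensorMod ((Scheme.Modules.pullback f).obj A) ((Scheme.Modules.pullback f).obj B) :=
    AmpleLib.tensorIso (Iso.refl _) eP
  let e2 : (Scheme.Modules.pullback f).obj (CohB1.tensorMod A B) ≅
      CohB1.tensorMod ((Scheme.Modules.pullback f).obj A) ((Scheme.Modules.pullback f).obj B) :=
    DCat.PullTensor.pullTensorIso f A B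
  exact V_of_iso (((Scheme.Modules.pullback f).mapIso et).symm ≪≫ e2 ≪≫ e1.symm) h

/-- Intermediate cohomology of twists vanishes, and restriction of sections is onto. -/
theorem coh_ci : ∀ (r : ℕ) (a : Fin r → ℕ) (_ : ∀ l, 1 ≤ a l) (G : ∀ l : Fin r, LefPen.Form n k (a l)),
    r ≤ n → IsProperCI G →
    (∀ (i : ℤ) (p : ℕ), 0 < p → p + r < n →
      V ((Scheme.Modules.pullback (LefPen.ciIdeal G).subschemeι).obj (Twist.twistProjSpace n k i)) p) ∧
    (r < n → ∀ i : ℤ, SurjRes (LefPen.ciIdeal G).subschemeι (Twist.twistProjSpace n k i)) := by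
  intro r
  induction r with
  | zero =>
    intro a _ G _ _
    have hI : LefPen.ciIdeal G = ⊥ := iSup_of_empty _
    have hk : Scheme.Hom.ker (𝟙 (CohB1.ProjSpace n k)) = (LefPen.ciIdeal G).subschemeι.ker := by
      rw [Scheme.IdealSheafData.ker_subschemeι, hI, Scheme.Hom.ker_eq_bot_of_isIso]
    let e := IsClosedImmersion.lift (𝟙 (CohB1.ProjSpace n k)) (LefPen.ciIdeal G).subschemeι hk.le
    haveI : IsIso e := IsClosedImmersion.isIso_of_ker_eq (LefPen.ciIdeal G).subschemeι (𝟙 _) e
      (IsClosedImmersion.lift_fac _ _ _) hk.symm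
    have he : e ≫ 𝟙 _ = (LefPen.ciIdeal G).subschemeι := IsClosedImmersion.lift_fac _ _ _
    refine ⟨fun i p hp hpn => ?_, fun _ i => ?_⟩
    · haveI := isQCoh_twist' (n := n) (k := k) i
      refine V_of_eq he.symm (V_pullback_of_iso e (𝟙 _) _ p (V_of_iso ((Scheme.Modules.pullbackId _).app _).symm ?_))
      exact subsingleton_HH_twist (n := n) (R := k) (d := i) p (by omega) (by omega)
    · refine surjRes_of_eq he.symm (surjRes_comp _ _ _ ?_ ?_)
      · haveI := isIso_clUnit_of_isIso (𝟙 (CohB1.ProjSpace n k)) (Twist.twistProjSpace n k i)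
        exact surjRes_of_isIso_unit _ _
      · haveI := isIso_clUnit_of_isIso e ((Scheme.Modules.pullback (𝟙 (CohB1.ProjSpace n k))).obj (Twist.twistProjSpace n k i))
        exact surjRes_of_isIso_unit _ _
  | succ r ih =>
    intro a ha G hr hG
    obtain ⟨ihV, ihS⟩ := ih (fun l => a l.castSucc) (fun l => ha l.castSucc) (fun l => G l.castSucc) (by omega)
      (isProperCI_castSucc ha G hr hG)
    let J := cut G
    let ι' := (prev G).subschemeι
    have hJ : PicF.IsInvertible (ClSub.idealMod J) :=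
      FlatMor12.IdealModGen.isInvertible_idealMod J (isEffCartier_cut G hG)
    obtain ⟨eJ⟩ := nonempty_idealMod_cut_iso G ha hr hG
    have hk : (J.subschemeι ≫ ι').ker = (LefPen.ciIdeal G).subschemeι.ker := by
      rw [ker_comap_comp_subschemeι, prev_sup_eq, Scheme.IdealSheafData.ker_subschemeι]
    let e := IsClosedImmersion.lift (J.subschemeι ≫ ι') (LefPen.ciIdeal G).subschemeι hk.le
    haveI : IsIso e := IsClosedImmersion.isIso_of_ker_eq (LefPen.ciIdeal G).subschemeι (J.subschemeι ≫ ι') e
      (IsClosedImmersion.lift_fac _ _ _) hk.symm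
    have he : e ≫ (J.subschemeι ≫ ι') = (LefPen.ciIdeal G).subschemeι := IsClosedImmersion.lift_fac _ _ _
    have hM : ∀ i : ℤ, PicF.IsInvertible ((Scheme.Modules.pullback ι').obj (Twist.twistProjSpace n k i)) :=
      fun i => PicLoc.isInvertible_pullback _ (isInvertible_twist' i)
    have hfirst : ∀ (i : ℤ) (p : ℕ), 0 < p → p + r < n →
        V (CohB1.tensorMod ((Scheme.Modules.pullback ι').obj (Twist.twistProjSpace n k i)) (ClSub.idealMod J)) p := by
      intro i p hp hpn
      obtain ⟨et⟩ := nonempty_twist_tensor (n := n) (k := k) i (-(a (Fin.last r) : ℤ)) (i - (a (Fin.last r) : ℤ)) (by ring)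
      exact V_tensor_pullback ι' eJ et (ihV (i - (a (Fin.last r) : ℤ)) p hp hpn)
    refine ⟨fun i p hp hpn => ?_, fun hlt i => ?_⟩
    · haveI := isQCoh_twist' (n := n) (k := k) i
      haveI : Coh.IsQCoh ((Scheme.Modules.pullback J.subschemeι).obj ((Scheme.Modules.pullback ι').obj (Twist.twistProjSpace n k i))) :=
        AmpleLib.isQCoh_of_isInvertible (PicLoc.isInvertible_pullback _ (hM i))
      have h3 := V_right (divSeq_shortExact J hJ (hM i)) (ihV i p hp (by omega)) (hfirst i (p + 1) (by omega) (by omega))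
      exact V_of_eq he.symm (V_pullback_of_iso e _ _ p (V_of_iso
        ((Scheme.Modules.pullbackComp J.subschemeι ι').app _) ((V_push_iff J.subschemeι ((Scheme.Modules.pullback J.subschemeι).obj ((Scheme.Modules.pullback ι').obj (Twist.twistProjSpace n k i))) p).1 h3)))
    · refine surjRes_of_eq he.symm (surjRes_comp _ _ _ (surjRes_comp _ _ _ (ihS (by omega) i) ?_) ?_)
      · exact surjective_top (divSeq_shortExact J hJ (hM i)) (hfirst i 1 one_pos (by omega))
      · haveI := isIso_clUnit_of_isIso e ((Scheme.Modules.pullback (J.subschemeι ≫ ι')).obj (Twist.twistProjSpace n k i))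
        exact surjRes_of_isIso_unit _ _

end Groth.Agent.CI14
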