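import Groth.Agent.Misc15.CMCI
import Groth.Agent.LefPen24.HypIdeal
import Groth.Agent.TwistLib.G.QCoh
import Groth.Agent.DimLib.ProjDim
import Groth.Agent.DimLib.Components
import Groth.Agent.CycLib28.MultLocal
import Groth.Agent.CAlgH3.RegularCore
import Groth.Agent.VarietyLib.SmoothStalk
import Groth.Agent.Dual22Lib.ProjSmooth
import Groth.Agent.CurveLib.ProjLine

/-!
# Global complete intersections in projective space: local structure
-/

set_option autoImplicit false
set_option backward.isDefEq.respectTransparency false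
set_option backward.isDefEq.respectTransparency.types false
set_option linter.style.haveILetI false

universe u

open CategoryTheory CategoryTheory.Limits AlgebraicGeometry TopologicalSpace IsLocalRing
open Groth.Agent.CAlgH3 Groth.Agent.DimLib

namespace Groth.Agent.CI14

local notation "CMLocal" => _root_.LocCoh.IsCohenMacaulayLocalRing
local notation "CM" => _root_.LocCoh.IsCohenMacaulayModule

/-! ## Algebra -/

/-- Elements cutting the dimension of a Cohen–Macaulay local ring down by their number are regular in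
any order. -/
theorem regular_of_dim_le {R : Type u} [CommRing R] [CMLocal R] {r : ℕ} (g : Fin r → R)
    (hg : ∀ i, g i ∈ maximalIdeal R)
    (hd : ringKrullDim (R ⧸ Ideal.span (Set.range g)) + r ≤ ringKrullDim R) :
    (∀ (s : Finset (Fin r)) (a : Fin r), a ∉ s → IsSMulRegular (R ⧸ Ideal.span (g '' (s : Set (Fin r)))) (g a)) ∧
      ringKrullDim (R ⧸ Ideal.span (Set.range g)) + r = ringKrullDim R := by
  classical
  let d : Finset (Fin r) → WithBot ℕ∞ := fun s => Module.supportDim R (R ⧸ Ideal.span (g '' (s : Set (Fin r))))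
  have e : ∀ (s : Finset (Fin r)) (i : Fin r),
      Nonempty (QuotSMulTop (g i) (R ⧸ Ideal.span (g '' (s : Set (Fin r)))) ≃ₗ[R]
        R ⧸ Ideal.span (g '' (insert i s : Finset (Fin r)))) :=
    fun s i => ⟨(quotSMulTopQuotient _ _).trans (Submodule.quotEquivOfEq _ _ (by
      rw [Finset.coe_insert, Set.image_insert_eq, Ideal.span_insert, sup_comm]))⟩
  have step : ∀ (s : Finset (Fin r)) (i : Fin r), d s ≤ d (insert i s) + 1 := fun s i => by
    obtain ⟨e⟩ := e s i
    change _ ≤ Module.supportDim R (R ⧸ Ideal.span (g '' (insert i s : Finset (Fin r)))) + 1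
    rw [← Module.supportDim_eq_of_equiv e]
    exact Module.supportDim_le_supportDim_quotSMulTop_succ_of_mem_jacobson ((maximalIdeal_le_jacobson _) (hg i))
  have tel : ∀ (u t : Finset (Fin r)), d t ≤ d (t ∪ u) + (u.card : ℕ) := by
    intro u
    induction u using Finset.induction with
    | empty => simp
    | insert a u ha ih =>
      intro t
      refine (ih t).trans ((add_le_add (step (t ∪ u) a) le_rfl).trans ?_)
      rw [Finset.card_insert_of_notMem ha, Finset.union_insert, Nat.cast_add, Nat.cast_one, add_assoc,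
        add_comm (1 : WithBot ℕ∞)]
  have hempty : d ∅ = ringKrullDim R := by
    change Module.supportDim R _ = _
    rw [Module.supportDim_quotient_eq_ringKrullDim, Finset.coe_empty, Set.image_empty, Ideal.span_empty,
      ringKrullDim_eq_of_ringEquiv (RingEquiv.quotientBot R)]
  have huniv : d Finset.univ = ringKrullDim (R ⧸ Ideal.span (Set.range g)) := by
    change Module.supportDim R _ = _
    rw [Module.supportDim_quotient_eq_ringKrullDim, Finset.coe_univ, Set.image_univ]
  have hu : ∀ t : Finset (Fin r), d t + (t.card : ℕ) ≤ ringKrullDim R := by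
    intro t
    refine le_trans ?_ hd
    have := tel tᶜ t
    rw [Finset.union_compl, huniv] at this
    refine (add_le_add this le_rfl).trans (le_of_eq ?_)
    rw [add_assoc, ← Nat.cast_add, Finset.card_compl_add_card, Fintype.card_fin]
  have hreg : ∀ (s : Finset (Fin r)) (a : Fin r), a ∉ s → CM R (R ⧸ Ideal.span (g '' (s : Set (Fin r)))) →
      IsSMulRegular (R ⧸ Ideal.span (g '' (s : Set (Fin r)))) (g a) := by
    intro s a ha ih
    obtain ⟨e⟩ := e s a
    refine isSMulRegular_of_supportDim_quot ih ?_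
    rw [Module.supportDim_eq_of_equiv e]
    change d (insert a s) + 1 ≤ d s
    have h1 := tel s ∅
    rw [Finset.empty_union, hempty] at h1
    have h2 := (hu (insert a s)).trans h1
    rw [Finset.card_insert_of_notMem ha, Nat.cast_add, Nat.cast_one, ← add_assoc, add_right_comm] at h2
    exact Misc15.le_of_add_natCast_le _ h2
  have main : ∀ s : Finset (Fin r), CM R (R ⧸ Ideal.span (g '' (s : Set (Fin r)))) := by
    intro s
    induction s using Finset.induction with
    | empty =>
      rw [Finset.coe_empty, Set.image_empty, Ideal.span_empty]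
      exact (isCohenMacaulayModule_congr (Submodule.quotEquivOfEqBot ⊥ rfl)).2
        ((isCohenMacaulayLocalRing_iff R).1 ‹_›)
    | insert a s ha ih =>
      obtain ⟨e⟩ := e s a
      exact (isCohenMacaulayModule_congr e).1
        ((isCohenMacaulayModule_quotSMulTop_iff (hg a) (hreg s a ha ih)).2 ih)
  refine ⟨fun s a ha => hreg s a ha (main s), le_antisymm hd ?_⟩
  have h3 := tel Finset.univ ∅
  rwa [Finset.empty_union, hempty, huniv, Finset.card_univ, Fintype.card_fin] at h3

/-! ## Geometry -/

variable {k : Type u} [Field k] {n r : ℕ} {a : Fin r → ℕ} (G : ∀ j : Fin r, LefPen.Form n k (a j))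

local notation "𝒫" => CohB1.polyGrading n k

theorem exists_chart (x : CohB1.ProjSpace n k) : ∃ j, x ∈ LefPen.chart n k j :=
  Opens.mem_iSup.1 ((ProjLib.iSup_basicOpen_X n k).ge (Set.mem_univ x))

theorem ideal_ciIdeal_chart (j : Fin (n + 1)) :
    (LefPen.ciIdeal G).ideal ⟨LefPen.chart n k j, LefPen24.isAffineOpen_chart j⟩ =
      Ideal.span (Set.range fun l => LefPen.dehom (G l) j) := by
  rw [LefPen.ciIdeal, Scheme.IdealSheafData.ideal_iSup, iSup_apply]
  simp only [LefPen24.ideal_hypIdeal_chart]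
  exact (Ideal.span_range_eq_iSup _).symm

theorem mem_basicOpen_dehom_iff {d : ℕ} (F : LefPen.Form n k d) (j : Fin (n + 1))
    (x : ProjectiveSpectrum (CohB1.polyGrading n k)) (hx : x ∈ LefPen.chart n k j) :
    (show ↥(CohB1.ProjSpace n k) from x) ∈ (CohB1.ProjSpace n k).basicOpen (LefPen.dehom F j) ↔
      F.1 ∉ x.asHomogeneousIdeal.toIdeal := by
  have e := TwistLib.G.basicOpen_away (LefPen.X_mem n k j) d F.1
    (by rw [smul_eq_mul, mul_one]; exact F.2)
  rw [LefPen.dehom]
  erw [e]
  show MvPolynomial.X j * F.1 ∉ x.asHomogeneousIdeal.toIdeal ↔ _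
  exact ⟨fun h hF => h (Ideal.mul_mem_left _ _ hF), fun h hm => (x.isPrime.mem_or_mem hm).elim hx h⟩

theorem mem_support_ciIdeal_iff (x : ProjectiveSpectrum (CohB1.polyGrading n k)) :
    (show ↥(CohB1.ProjSpace n k) from x) ∈ (LefPen.ciIdeal G).support ↔
      ∀ l, (G l).1 ∈ x.asHomogeneousIdeal.toIdeal := by
  obtain ⟨j, hj⟩ := exists_chart (show ↥(CohB1.ProjSpace n k) from x)
  rw [Scheme.IdealSheafData.mem_support_iff_of_mem
    (U := ⟨LefPen.chart n k j, LefPen24.isAffineOpen_chart j⟩) hj, ideal_ciIdeal_chart,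
    Scheme.zeroLocus_span, Scheme.mem_zeroLocus_iff, Set.forall_mem_range]
  refine forall_congr' fun l => ?_
  rw [mem_basicOpen_dehom_iff (G l) j x hj]
  exact not_not

/-- The germ of `G_l / T_j^{a_l}`. -/
noncomputable def germOf (j : Fin (n + 1)) (x : CohB1.ProjSpace n k) (hx : x ∈ LefPen.chart n k j) (l : Fin r) :
    (CohB1.ProjSpace n k).presheaf.stalk x :=
  (CohB1.ProjSpace n k).presheaf.germ (LefPen.chart n k j) x hx (LefPen.dehom (G l) j)

theorem germOf_mem_iff (j : Fin (n + 1)) (x : ProjectiveSpectrum (CohB1.polyGrading n k))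
    (hx : x ∈ LefPen.chart n k j) (l : Fin r) :
    germOf G j x hx l ∈ maximalIdeal ((CohB1.ProjSpace n k).presheaf.stalk x) ↔
      (G l).1 ∈ x.asHomogeneousIdeal.toIdeal := by
  rw [IsLocalRing.mem_maximalIdeal, mem_nonunits_iff, germOf, ← Scheme.mem_basicOpen,
    mem_basicOpen_dehom_iff (G l) j x hx, not_not]

theorem stalkMap_surj_ker (y : (LefPen.ciIdeal G).subscheme) (j : Fin (n + 1))
    (hy : (LefPen.ciIdeal G).subschemeι y ∈ LefPen.chart n k j) :
    Function.Surjective ((LefPen.ciIdeal G).subschemeι.stalkMap y).hom ∧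
      RingHom.ker ((LefPen.ciIdeal G).subschemeι.stalkMap y).hom =
        Ideal.span (Set.range (germOf G j _ hy)) := by
  refine ⟨(LefPen.ciIdeal G).subschemeι.stalkMap_surjective y, ?_⟩
  rw [HilbertBurch29.ker_stalkMap_eq (LefPen.ciIdeal G).subschemeι y
    ⟨LefPen.chart n k j, LefPen24.isAffineOpen_chart j⟩ hy, Scheme.IdealSheafData.ker_subschemeι,
    ideal_ciIdeal_chart, Ideal.map_span, ← Set.range_comp]
  rfl

theorem exists_stalk_dim (x : CohB1.ProjSpace n k) :
    ∃ m : ℕ, ringKrullDim ((CohB1.ProjSpace n k).presheaf.stalk x) = m ∧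
      ptDim (CohB1.ProjSpace.toSpec n k) x + m = n := by
  haveI := PN.finiteType_toSpec n k
  haveI : LocallyOfFiniteType (CohB1.ProjSpace.toSpec n k) := this.1
  haveI : IsIntegral (CohB1.ProjSpace n k) := CurveLib.isIntegral_projSpace (k := k) n
  have e := CycLib28.dim_stalk_add_closure (CohB1.ProjSpace.toSpec n k) x
  rw [PN.topologicalKrullDim_projSpace,
    topologicalKrullDim_eq_ptDim_of_isGenericPoint (CohB1.ProjSpace.toSpec n k) isGenericPoint_closure] at e
  obtain ⟨i, m, ei, em, h⟩ := CycLib28.exists_nat_of_add_eq e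
  have h1 : ptDim (CohB1.ProjSpace.toSpec n k) x = i := by exact_mod_cast ei
  exact ⟨m, em, by omega⟩

theorem regular_stalk (x : CohB1.ProjSpace n k) :
    IsRegularLocalRing ((CohB1.ProjSpace n k).presheaf.stalk x) := by
  haveI := Dual22Lib.ProjSmooth.smooth_toSpec (K := k) (n := n)
  exact VarietyLib.isRegularLocalRing_stalk_of_smooth k _ (CohB1.ProjSpace.toSpec n k) x

/-- Every point of the common zero locus has dimension at most `n - r`. -/
def IsProperCI : Prop :=
  ∀ x ∈ (LefPen.ciIdeal G).support, ptDim (CohB1.ProjSpace.toSpec n k) x + r ≤ n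

theorem isProperCI_of_dim (hr : r ≤ n)
    (hdim : topologicalKrullDim ↥(LefPen.ciIdeal G).subscheme = ((n - r : ℕ) : WithBot ℕ∞)) :
    IsProperCI G := by
  intro x hx
  haveI := (PN.finiteType_toSpec n k).1
  have e : topologicalKrullDim ↥((LefPen.ciIdeal G).support : Set (CohB1.ProjSpace n k)) = ((n - r : ℕ) : WithBot ℕ∞) :=
    (EGA43.DimFormula.topologicalKrullDim_eq_of_range _ (LefPen.ciIdeal G).subschemeι.isEmbedding _
      (LefPen.ciIdeal G).range_subschemeι).trans hdim
  have h1 := (Topology.IsEmbedding.inclusion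
    (show closure {x} ⊆ ((LefPen.ciIdeal G).support : Set (CohB1.ProjSpace n k)) from
      closure_minimal (Set.singleton_subset_iff.2 hx) (LefPen.ciIdeal G).support.isClosed)).isInducing.topologicalKrullDim_le
  rw [e, topologicalKrullDim_eq_ptDim_of_isGenericPoint (CohB1.ProjSpace.toSpec n k) isGenericPoint_closure] at h1
  have h2 : ptDim (CohB1.ProjSpace.toSpec n k) x ≤ n - r := by exact_mod_cast h1
  omega

theorem dim_stalk_le (hG : IsProperCI G) (y : (LefPen.ciIdeal G).subscheme) :
    ringKrullDim ((LefPen.ciIdeal G).subscheme.presheaf.stalk y) + r ≤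
      ringKrullDim ((CohB1.ProjSpace n k).presheaf.stalk ((LefPen.ciIdeal G).subschemeι y)) := by
  haveI := (PN.finiteType_toSpec n k).1
  let I := LefPen.ciIdeal G
  let x := I.subschemeι y
  obtain ⟨m, hm, hsum⟩ := exists_stalk_dim x
  have hx : x ∈ I.support := I.range_subschemeι.le ⟨y, rfl⟩
  have hr : r ≤ n := by have := hG x hx; omega
  have htot : topologicalKrullDim ↥I.subscheme ≤ ((n - r : ℕ) : WithBot ℕ∞) := by
    rw [← EGA43.DimFormula.topologicalKrullDim_eq_of_range _ I.subschemeι.isEmbedding _ I.range_subschemeι,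
      topologicalKrullDim_locallyClosed_eq_iSup (CohB1.ProjSpace.toSpec n k) I.support.isClosed.isLocallyClosed]
    refine iSup_le fun z => ?_
    have := hG z.1 z.2
    exact_mod_cast (show ptDim (CohB1.ProjSpace.toSpec n k) z.1 ≤ n - r by omega)
  have h2 := EGA43.RectDepth.isUniversallyCatenary_stalk (S := Spec (CommRingCat.of k))
    (fun s => VarietyLib.isRegularLocalRing_stalk_of_smooth k _ (𝟙 _) s)
  have h3 : ∀ S' ∈ irreducibleComponents (Spec (CommRingCat.of k) : Type u), ∀ s ∈ S', IsClosed ({s} : Set _) →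
      topologicalKrullDim (↥S' : Type u) = topologicalKrullDim ↥{t : Spec (CommRingCat.of k) | t ∈ S' ∧ t ⤳ s} := by
    intro S' _ s hs _
    have : {t : Spec (CommRingCat.of k) | t ∈ S' ∧ t ⤳ s} = S' := by
      ext t
      exact ⟨fun h => h.1, fun h => ⟨h, (Subsingleton.elim s t) ▸ specializes_rfl⟩⟩
    rw [this]
  obtain ⟨e1, -, -⟩ := EGA43.DimFormula.localDim_formula h2 h3 (I.subschemeι ≫ CohB1.ProjSpace.toSpec n k) y
  have hle : FlatMor.localDim ↥I.subscheme y ≤ ((n - r : ℕ) : WithBot ℕ∞) :=
    (iInf_le _ ⟨⊤, trivial⟩).trans ((topologicalKrullDim_subspace_le _ _).trans htot)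
  have hc : topologicalKrullDim ↥(closure ({y} : Set I.subscheme)) =
      topologicalKrullDim ↥(closure ({x} : Set (CohB1.ProjSpace n k))) := by
    refine (EGA43.DimFormula.topologicalKrullDim_eq_of_range
      (fun t : closure ({y} : Set I.subscheme) => I.subschemeι t.1)
      (I.subschemeι.isEmbedding.comp Topology.IsEmbedding.subtypeVal) _ ?_).symm
    rw [Set.range_comp' I.subschemeι Subtype.val, Subtype.range_coe, ← Set.image_singleton,
      I.subschemeι.isClosedEmbedding.closure_image_eq]
  rw [e1, hc, topologicalKrullDim_eq_ptDim_of_isGenericPoint (CohB1.ProjSpace.toSpec n k) isGenericPoint_closure] at hle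
  rw [hm]
  have h0 : (0 : WithBot ℕ∞) ≤ ringKrullDim (I.subscheme.presheaf.stalk y) := ringKrullDim_nonneg_of_nontrivial
  obtain ⟨b, hb⟩ := WithBot.ne_bot_iff_exists.1
    (fun e : ringKrullDim (I.subscheme.presheaf.stalk y) = ⊥ => by simp [e] at h0)
  rw [← hb] at hle ⊢
  have hle' : ((ptDim (CohB1.ProjSpace.toSpec n k) x : ℕ∞) + b) ≤ ((n - r : ℕ) : ℕ∞) := WithBot.coe_le_coe.1 hle
  have hbt : b ≠ ⊤ := fun e => by simp [e] at hle'
  lift b to ℕ using hbt
  have hle'' : ptDim (CohB1.ProjSpace.toSpec n k) x + b ≤ n - r := by exact_mod_cast hle'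
  have : b + r ≤ m := by omega
  exact_mod_cast this

/-- At a common zero the germs form a regular sequence in any order. -/
theorem regular_germOf (hG : IsProperCI G) (y : (LefPen.ciIdeal G).subscheme) (j : Fin (n + 1))
    (hy : (LefPen.ciIdeal G).subschemeι y ∈ LefPen.chart n k j) :
    (∀ l, germOf G j _ hy l ∈ maximalIdeal _) ∧
    (∀ (s : Finset (Fin r)) (l : Fin r), l ∉ s → IsSMulRegular
      (_ ⧸ Ideal.span (germOf G j _ hy '' (s : Set (Fin r)))) (germOf G j _ hy l)) ∧
    ringKrullDim ((LefPen.ciIdeal G).subscheme.presheaf.stalk y) + r =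
      ringKrullDim ((CohB1.ProjSpace n k).presheaf.stalk ((LefPen.ciIdeal G).subschemeι y)) := by
  haveI := regular_stalk ((LefPen.ciIdeal G).subschemeι y)
  haveI := CAlgH3.isCohenMacaulayLocalRing_of_regular
    ((CohB1.ProjSpace n k).presheaf.stalk ((LefPen.ciIdeal G).subschemeι y))
  obtain ⟨hsurj, hker⟩ := stalkMap_surj_ker G y j hy
  have hmem : ∀ l, germOf G j _ hy l ∈ maximalIdeal _ := fun l => (germOf_mem_iff G j _ hy l).2
    ((mem_support_ciIdeal_iff G _).1 ((LefPen.ciIdeal G).range_subschemeι.le ⟨y, rfl⟩) l)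
  have he := ringKrullDim_eq_of_ringEquiv
    ((Ideal.quotEquivOfEq hker.symm).trans (RingHom.quotientKerEquivOfSurjective hsurj))
  have h := regular_of_dim_le (germOf G j _ hy) hmem (he ▸ dim_stalk_le G hG y)
  exact ⟨hmem, h.1, he ▸ h.2⟩

/-- Dropping a form keeps the intersection proper. -/
theorem isProperCI_castSucc {r : ℕ} {a : Fin (r + 1) → ℕ} (ha : ∀ l, 1 ≤ a l)
    (G : ∀ l : Fin (r + 1), LefPen.Form n k (a l)) (hr : r + 1 ≤ n) (hG : IsProperCI G) :
    IsProperCI fun l : Fin r => G l.castSucc := by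
  classical
  intro x hx
  let x' : ProjectiveSpectrum (CohB1.polyGrading n k) := x
  have hxp := (mem_support_ciIdeal_iff _ x').1 hx
  have h1 : ptDim (CohB1.ProjSpace.toSpec n k) x + 1 = PN.cdim x'.asHomogeneousIdeal.toIdeal :=
    PN.ptDim_add_one x'
  rcases Nat.lt_or_ge 1 (PN.cdim x'.asHomogeneousIdeal.toIdeal) with h2 | h2
  · haveI : (PN.m0 n k).IsPrime := PN.m0_isPrime
    let E : Finset (MvPolynomial (Fin (n + 1)) k) := {(G (Fin.last r)).1}
    have hE : ∀ e ∈ E, ∃ d, 0 < d ∧ e.IsHomogeneous d := fun e he => by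
      rw [Finset.mem_singleton] at he
      exact ⟨_, ha (Fin.last r), he ▸ (G (Fin.last r)).2⟩
    obtain ⟨Q, hQ, -⟩ := Ideal.exists_minimalPrimes_le
      (I := x'.asHomogeneousIdeal.toIdeal ⊔ Ideal.span (E : Set _)) (J := PN.m0 n k)
      (sup_le (PN.le_m0 x'.isPrime x'.asHomogeneousIdeal.isHomogeneous) (Ideal.span_le.2 fun e he => by
        obtain ⟨d, hd, hde⟩ := hE e he
        exact PN.mem_m0_of_homogeneous hde hd))
    have h3 := PN.cdim_le_add x'.isPrime E hQ
    rw [Finset.card_singleton] at h3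
    have hQh := PN.isHomogeneous_of_mem_minimalPrimes (x'.asHomogeneousIdeal.isHomogeneous.sup
      (PN.span_isHomogeneous fun e he => (hE e he).imp fun _ h => h.2)) hQ
    obtain ⟨w, rfl⟩ := PN.exists_point hQ.1.1 hQh (fun e => by rw [e, PN.cdim_m0] at h3; omega)
    have hw : (show ↥(CohB1.ProjSpace n k) from w) ∈ (LefPen.ciIdeal G).support := by
      refine (mem_support_ciIdeal_iff G w).2 fun l => ?_
      induction l using Fin.lastCases with
      | last => exact hQ.1.2 (Ideal.mem_sup_right (Ideal.subset_span (Finset.mem_singleton_self _)))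
      | cast l => exact hQ.1.2 (Ideal.mem_sup_left (hxp l))
    have h4 := hG _ hw
    have h5 : ptDim (CohB1.ProjSpace.toSpec n k) (show ↥(CohB1.ProjSpace n k) from w) + 1 =
        PN.cdim w.asHomogeneousIdeal.toIdeal := PN.ptDim_add_one w
    omega
  · omega

end Groth.Agent.CI14
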